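import Groth.Prelude.Def_W4c61motalbdualityCompl
import Mathlib.Topology.Algebra.OpenSubgroup
import Mathlib.Topology.Separation.Profinite
import Mathlib.Topology.Algebra.Group.Pointwise
import Mathlib.GroupTheory.FiniteAbelian.Basic
import Mathlib.RingTheory.Noetherian.Basic
import Mathlib.GroupTheory.Finiteness
import Mathlib.RingTheory.Finiteness.Basic
import Mathlib.Algebra.Module.Torsion.Basic
import Mathlib.Topology.Algebra.Group.Quotient

set_option autoImplicit false

/-!
# Totally disconnected locally compact abelian groups, completions along open finite-index subgroups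
-/

universe u v

open W4c61motalbduality Topology Pointwise

namespace GrothLib.LCGroup21

section
variable {B : Type u} [AddCommGroup B] [TopologicalSpace B] [IsTopologicalAddGroup B]

theorem exists_addSubgroup_subset [T2Space B] [LocallyCompactSpace B] [TotallyDisconnectedSpace B]
    {O : Set B} (hO : IsOpen O) (h0 : (0 : B) ∈ O) :
    ∃ H : AddSubgroup B, IsOpen (H : Set B) ∧ (H : Set B) ⊆ O := by
  obtain ⟨K, hK, hK0⟩ := exists_compact_mem_nhds (0 : B)
  obtain ⟨W, hW, hW0, hWs⟩ := (loc_compact_Haus_tot_disc_of_zero_dim (H := B)).exists_subset_of_mem_open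
    (show (0 : B) ∈ interior K ∩ O from ⟨mem_interior_iff_mem_nhds.2 hK0, h0⟩) (isOpen_interior.inter hO)
  have hWc : IsCompact W := hK.of_isClosed_subset hW.1 fun x hx => interior_subset (hWs hx).1
  obtain ⟨T, hT, hWT⟩ := compact_open_separated_add_right hWc hW.2 (Set.Subset.refl W)
  let H : AddSubgroup B :=
    { carrier := {g | ∀ w, w + g ∈ W ↔ w ∈ W}
      zero_mem' := fun w => by simp
      add_mem' := fun {a b} ha hb w => by rw [← add_assoc, hb, ha]
      neg_mem' := fun {a} ha w => by
        have := ha (w + -a)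
        rw [neg_add_cancel_right] at this
        exact this.symm }
  refine ⟨H, H.isOpen_of_mem_nhds (g := 0) (Filter.mem_of_superset (Filter.inter_mem hT (neg_mem_nhds_zero B hT)) ?_),
    fun g hg => (hWs (by simpa using (hg 0).2 hW0)).2⟩
  rintro g ⟨hg, hg'⟩ w
  refine ⟨fun h => ?_, fun h => hWT (Set.add_mem_add h hg)⟩
  have := hWT (Set.add_mem_add h hg')
  rwa [add_neg_cancel_right] at this

theorem fg_quotient {K : Set B} (hK : IsCompact K) (hgen : AddSubgroup.closure K = ⊤) {H : AddSubgroup B}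
    (hH : IsOpen (H : Set B)) : AddGroup.FG (B ⧸ H) := by
  haveI : DiscreteTopology (B ⧸ H) := QuotientAddGroup.discreteTopology hH
  have hfin : (QuotientAddGroup.mk' H '' K).Finite := (hK.image (QuotientAddGroup.continuous_mk (N := H))).finite_of_discrete
  rw [AddGroup.fg_iff]
  exact ⟨QuotientAddGroup.mk' H '' K, by
    rw [← AddMonoidHom.map_closure, hgen, AddSubgroup.map_top_of_surjective _ (QuotientAddGroup.mk'_surjective H)],
    hfin⟩

variable {A : Type v} [AddCommGroup A] [TopologicalSpace A]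

theorem exists_open_comap_eq [T2Space B] [LocallyCompactSpace B] [TotallyDisconnectedSpace B]
    (i : A →+ B) (hind : IsInducing i) {U : AddSubgroup A} (hU : IsOpen (U : Set A)) :
    ∃ H : AddSubgroup B, IsOpen (H : Set B) ∧ H.comap i = U := by
  obtain ⟨O, hO, hOU⟩ := hind.isOpen_iff.1 hU
  obtain ⟨C, hC, hCO⟩ := exists_addSubgroup_subset hO (show (0 : B) ∈ O by
    have : (0 : A) ∈ i ⁻¹' O := by rw [hOU]; exact U.zero_mem
    simpa using this)
  refine ⟨U.map i ⊔ C, AddSubgroup.isOpen_mono le_sup_right hC, le_antisymm (fun a ha => ?_) fun a ha => ?_⟩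
  · obtain ⟨_, ⟨u, hu, rfl⟩, c, hc, hac⟩ := AddSubgroup.mem_sup.1 ha
    have : a - u ∈ i ⁻¹' O := by
      rw [Set.mem_preimage, map_sub, ← hac, add_sub_cancel_left]
      exact hCO hc
    rw [hOU] at this
    simpa using U.add_mem this hu
  · exact AddSubgroup.mem_sup_left ⟨a, ha, rfl⟩

end

/-- A finitely generated abelian group is residually finite. -/
theorem exists_finiteIndex_not_mem {D : Type u} [AddCommGroup D] [AddGroup.FG D] {x : D} (hx : x ≠ 0) :
    ∃ N : AddSubgroup D, N.FiniteIndex ∧ x ∉ N := by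
  haveI : Module.Finite ℤ D := Module.Finite.iff_addGroup_fg.2 inferInstance
  obtain ⟨N, hN, hmax⟩ := set_has_maximal_iff_noetherian.2 (isNoetherian_of_isNoetherianRing_of_finite ℤ D)
    {N : Submodule ℤ D | x ∉ N} ⟨⊥, by simpa using hx⟩
  refine ⟨N.toAddSubgroup, ?_, hN⟩
  have hall : ∀ y ∉ N, x ∈ N ⊔ Submodule.span ℤ {y} := fun y hy => by
    by_contra h
    refine hmax (N ⊔ Submodule.span ℤ {y}) h (lt_of_le_not_ge le_sup_left fun hle => hy ?_)
    exact hle (Submodule.mem_sup_right (Submodule.subset_span rfl))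
  let q := N.mkQ
  have hqx : q x ≠ 0 := fun h => hN ((Submodule.Quotient.mk_eq_zero N).1 h)
  have hmul : ∀ y : D ⧸ N, y ≠ 0 → ∃ m : ℤ, m • y = q x := fun y hy => by
    obtain ⟨y, rfl⟩ := N.mkQ_surjective y
    obtain ⟨a, ha, b, hb, hab⟩ := Submodule.mem_sup.1 (hall y fun h => hy ((Submodule.Quotient.mk_eq_zero N).2 h))
    obtain ⟨m, rfl⟩ := Submodule.mem_span_singleton.1 hb
    refine ⟨m, ?_⟩
    rw [← hab, map_add, map_smul, show q a = 0 from (Submodule.Quotient.mk_eq_zero N).2 ha, zero_add]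
  have htx : ∃ k : ℤ, k ≠ 0 ∧ k • q x = 0 := by
    by_cases h2 : (2 : ℤ) • q x = 0
    · exact ⟨2, two_ne_zero, h2⟩
    · obtain ⟨m, hm⟩ := hmul _ h2
      refine ⟨2 * m - 1, by omega, ?_⟩
      rw [sub_smul, one_smul, mul_comm, mul_smul, hm, sub_self]
  have htor : IsAddTorsion (D ⧸ N) := fun y => by
    rw [isOfFinAddOrder_iff_zsmul_eq_zero]
    rcases eq_or_ne y 0 with rfl | hy
    · exact ⟨1, one_ne_zero, smul_zero _⟩
    obtain ⟨m, hm⟩ := hmul y hy
    obtain ⟨k, hk, hkx⟩ := htx
    refine ⟨k * m, mul_ne_zero hk fun h => hqx ?_, by rw [mul_smul, hm, hkx]⟩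
    rw [← hm, h, zero_smul]
  haveI : AddGroup.FG (D ⧸ N) := Module.Finite.iff_addGroup_fg.1 inferInstance
  haveI : Finite (D ⧸ N) := AddCommGroup.finite_of_fg_isAddTorsion _ htor
  haveI : Finite (D ⧸ N.toAddSubgroup) := inferInstanceAs (Finite (D ⧸ N))
  exact AddSubgroup.finiteIndex_of_finite_quotient

section
variable {A : Type u} [AddCommGroup A] [TopologicalSpace A]
  {B : Type v} [AddCommGroup B] [TopologicalSpace B]

/-- Intersection of two open subgroups of finite index. -/
def inf (V W : OpenFI A) : OpenFI A where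
  toAddSubgroup := V.toAddSubgroup ⊓ W.toAddSubgroup
  isOpen' := V.isOpen'.inter W.isOpen'
  finiteIndex' := by
    have := V.finiteIndex'
    have := W.finiteIndex'
    infer_instance

/-- An element of the completion of `B` which modulo every open subgroup of finite index comes from `A`
comes from the completion of `A`. -/
theorem mem_range_map (f : A →+ B) (hf : Continuous f) (x : FICompl B)
    (hx : ∀ V : OpenFI B, ∃ a : A, (f a : B ⧸ V.toAddSubgroup) = x.1 V) : x ∈ (FICompl.map f hf).range := by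
  classical
  letI : ∀ U : OpenFI A, TopologicalSpace (A ⧸ U.toAddSubgroup) := fun _ => ⊥
  haveI : ∀ U : OpenFI A, DiscreteTopology (A ⧸ U.toAddSubgroup) := fun _ => ⟨rfl⟩
  haveI : ∀ U : OpenFI A, Finite (A ⧸ U.toAddSubgroup) := fun U =>
    have := U.finiteIndex'
    AddSubgroup.finite_quotient_of_finiteIndex
  have hcl : IsClosed ((FICompl A : Set ((U : OpenFI A) → A ⧸ U.toAddSubgroup))) := by
    show IsClosed {z : (U : OpenFI A) → A ⧸ U.toAddSubgroup | ∀ (U V : OpenFI A)
      (h : U.toAddSubgroup ≤ V.toAddSubgroup),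
      QuotientAddGroup.map U.toAddSubgroup V.toAddSubgroup (AddMonoidHom.id A) h (z U) = z V}
    simp only [Set.setOf_forall]
    exact isClosed_iInter fun U => isClosed_iInter fun V => isClosed_iInter fun h =>
      isClosed_eq (continuous_of_discreteTopology.comp (continuous_apply U)) (continuous_apply V)
  let T : OpenFI B → Set ((U : OpenFI A) → A ⧸ U.toAddSubgroup) := fun V =>
    (FICompl A : Set ((U : OpenFI A) → A ⧸ U.toAddSubgroup)) ∩ (fun z => z (V.comap f hf)) ⁻¹'
      {c | QuotientAddGroup.map (V.comap f hf).toAddSubgroup V.toAddSubgroup f (V.comap_le f) c = x.1 V}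
  have hTc : ∀ V, IsClosed (T V) := fun V => hcl.inter ((isClosed_discrete _).preimage (continuous_apply _))
  have hsub : ∀ V W : OpenFI B, V.toAddSubgroup ≤ W.toAddSubgroup → T V ⊆ T W := by
    rintro V W h z ⟨hz, hz'⟩
    refine ⟨hz, ?_⟩
    show QuotientAddGroup.map _ _ f _ (z (W.comap f hf)) = x.1 W
    rw [← hz (V.comap f hf) (W.comap f hf) (OpenFI.comap_mono f hf h), ← x.2 V W h, ← hz']
    obtain ⟨a, ha⟩ := QuotientAddGroup.mk_surjective (z (V.comap f hf))
    simp only [← ha, QuotientAddGroup.map_mk, AddMonoidHom.id_apply]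
  haveI : Nonempty (OpenFI B) := ⟨⟨⊤, by simp, inferInstance⟩⟩
  obtain ⟨z, hz⟩ := IsCompact.nonempty_iInter_of_directed_nonempty_isCompact_isClosed T
    (fun V W => ⟨inf V W, hsub _ _ inf_le_left, hsub _ _ inf_le_right⟩)
    (fun V => by
      obtain ⟨a, ha⟩ := hx V
      exact ⟨(toFICompl A a).1, (toFICompl A a).2, ha⟩)
    (fun V => (hTc V).isCompact) hTc
  rw [Set.mem_iInter] at hz
  exact ⟨⟨z, (hz (Classical.arbitrary _)).1⟩, Subtype.ext (funext fun V => (hz V).2)⟩

end

end GrothLib.LCGroup21
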